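import Groth.Agent.EllLaw.Law
import Groth.Agent.CurveBC.Main
import Groth.Agent.Lib.AVHodge
import Groth.Agent.GeomField.Connected

/-!
# Elliptic curves over a field
-/

set_option autoImplicit false
set_option linter.style.haveILetI false
set_option linter.unusedSectionVars false
set_option backward.isDefEq.respectTransparency false
set_option backward.isDefEq.respectTransparency.types false
set_option maxHeartbeats 1000000

universe u

open CategoryTheory CategoryTheory.Limits AlgebraicGeometry TopologicalSpace MonoidalCategory

noncomputable section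

namespace Groth.Agent.EllLaw

open Groth.Agent Groth.Agent.H23 Groth.Agent.PicTangent

variable {k : Type u} [Field k] {X : Scheme.{u}} (p : X ⟶ Spec (CommRingCat.of k))

theorem fibre_dim_of_field [Smooth p] (hdim : topologicalKrullDim X = 1) (s : ↥(Spec (CommRingCat.of k))) :
    topologicalKrullDim ↥(p.fiber s) = 1 := by
  rw [← hdim]
  exact (Homeomorph.isHomeomorph ((p.fiberι s).isEmbedding.toHomeomorphOfSurjective fun x =>
    (p.range_fiberι _).superset (show x ∈ p ⁻¹' {s} from
      Subsingleton.elim (α := ↥(Spec (CommRingCat.of k))) _ _))).topologicalKrullDim_eq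

theorem fiberRank_one_of_field [IsProper p]
    (hgen : @Module.finrank k (Coh.HH X (Coh.structureModule X) 1) _ _
      (letI : X.Over (Spec (CommRingCat.of k)) := ⟨p⟩; inferInstance) = 1) (s : ↥(Spec (CommRingCat.of k))) :
    CohIII.fiberRank p (Coh.structureModule X) 1 s = 1 := by
  letI : X.Over (Spec (CommRingCat.of k)) := ⟨p⟩
  let F := (Spec (CommRingCat.of k)).residueField s
  let σ : Spec F ⟶ Spec (CommRingCat.of k) := (Spec (CommRingCat.of k)).fromSpecResidueField s
  letI : Algebra k F := (Spec.preimage σ).hom.toAlgebra
  have hσ : Spec.map (CommRingCat.ofHom (algebraMap k F)) = σ := Spec.map_preimage σ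
  letI : (p.fiber s).Over (Spec (CommRingCat.of F)) := ⟨p.fiberToSpecResidueField s⟩
  haveI : CompactSpace X := QuasiCompact.compactSpace_of_compactSpace p
  haveI : X.IsSeparated := ⟨by rw [← Limits.terminal.comp_from p]; infer_instance⟩
  exact (CurveBC.finrank_hh (X := X) k F (p.fiberι s)
    (hσ.symm ▸ IsPullback.of_hasPullback p ((Spec (CommRingCat.of k)).fromSpecResidueField s)) _
    QCoh.isQCoh_structureModule 1).trans hgen

/-- An elliptic curve is a commutative group with the given unit. -/
theorem exists_grpObj (E : Over (Spec (CommRingCat.of k))) [IsProper E.hom] [Smooth E.hom]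
    [GeometricallyConnected E.hom] (hdim : topologicalKrullDim E.left = 1)
    (hgen : Module.finrank k (Coh.HH E.left (Coh.structureModule E.left) 1) = 1)
    (o : 𝟙_ (Over (Spec (CommRingCat.of k))) ⟶ E) :
    ∃ G : GrpObj E, @MonObj.one _ _ _ E G.toMonObj = o ∧ @IsCommMonObj _ _ _ _ E G.toMonObj := by
  haveI := JacDeg.smoothOfRelativeDimension_one E.hom (fibre_dim_of_field E.hom hdim)
  have hg := fiberRank_one_of_field E.hom hgen
  have he : o.left ≫ E.hom = 𝟙 _ := Over.w o
  refine ⟨grpObj E.hom hg o.left he, ?_, grpObj_comm E.hom hg o.left he⟩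
  refine (grpObj_one E.hom hg o.left he).trans (Over.OverMorphism.ext ?_)
  exact Category.id_comp o.left

/-- A smooth connected proper curve with a rational point is geometrically connected. -/
theorem geometricallyConnected_of_point [IsProper p] [ConnectedSpace X] (e : Spec (CommRingCat.of k) ⟶ X)
    (he : e ≫ p = 𝟙 _) : GeometricallyConnected p := by
  letI : X.Over (Spec (CommRingCat.of k)) := ⟨p⟩
  haveI : IsSeparated (X ↘ Spec (CommRingCat.of k)) := inferInstanceAs (IsSeparated p)
  obtain ⟨-, -, hs⟩ := CurveEmbed.section_point k e he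
  exact GeomField.geometricallyConnected_of_point (e (IsLocalRing.closedPoint k)) fun a _ => hs a

/-- A group structure forces genus one. -/
theorem genus_eq_one_of_grpObj [IsProper p] [Smooth p] [GeometricallyConnected p]
    (hdim : topologicalKrullDim X = 1) [GrpObj (Over.mk p)] : @Curv2.genus k _ X ⟨p⟩ = 1 := by
  letI : X.Over (Spec (CommRingCat.of k)) := ⟨p⟩
  haveI : IsProper (X ↘ Spec (CommRingCat.of k)) := inferInstanceAs (IsProper p)
  haveI : Smooth (X ↘ Spec (CommRingCat.of k)) := inferInstanceAs (Smooth p)
  haveI : GeometricallyConnected (X ↘ Spec (CommRingCat.of k)) := inferInstanceAs (GeometricallyConnected p)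
  haveI : IsProper (Over.mk p).hom := inferInstanceAs (IsProper p)
  haveI : SmoothOfRelativeDimension 1 (Over.mk p).hom :=
    JacDeg.smoothOfRelativeDimension_one p (fibre_dim_of_field p hdim)
  have h0 := CurveBC.finrank_h0_of_geometricallyConnected k X
  haveI := CurveStable.isIntegral_of_geometricallyConnected k (X := X)
  obtain ⟨e⟩ := AVHodge.nonempty_omega_free (A := Over.mk p) 1
  have h1 := CurveRR.deg_congr k (show Omega.sheaf (X ↘ Spec (CommRingCat.of k)) ≅ Coh.structureModule X from
    e ≪≫ H23.DblAlg.freeOneIso _) 1
  rw [(CurveBC.canonical_invariants k X hdim h0).2, CurveDeg.deg_structureModule] at h1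
  omega

end Groth.Agent.EllLaw
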