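import Groth.Agent.EllLaw.Law

/-!
# The curve over its own base
-/

set_option autoImplicit false
set_option linter.style.haveILetI false
set_option linter.unusedSectionVars false
set_option backward.isDefEq.respectTransparency false
set_option backward.isDefEq.respectTransparency.types false
set_option maxHeartbeats 1000000

universe u

open CategoryTheory CategoryTheory.Limits AlgebraicGeometry TopologicalSpace

noncomputable section

namespace Groth.Agent.EllLaw

open Groth.Agent Groth.Agent.H23 Groth.Agent.H23.PicMul Groth.Agent.H26 Groth.Agent.Pic13Lib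
  Groth.Agent.PicTangent Groth.Agent.PicTangent.JacDiff
open scoped Groth.Agent.H23.PicMul

attribute [local instance] PicMul.clMonoid

variable {E S : Scheme.{u}} (f : E ⟶ S) [IsProper f] [SmoothOfRelativeDimension 1 f] [GeometricallyConnected f]

/-- The trivial base change. -/
abbrev self : Over S := Over.mk (𝟙 S)

/-- The projection of the trivial base change. -/
abbrev selfIso : PicF.XT f (self (S := S)) ⟶ E := pullback.fst f (𝟙 S)

/-- Sections as points. -/
abbrev pointOf (P : S ⟶ E) (hP : P ≫ f = 𝟙 S) : self (S := S) ⟶ Over.mk f := Over.homMk P hP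

theorem pullCl_self_injective : Function.Injective (PicF.pullCl (selfIso f)) := fun c d h => by
  have h1 := congrArg (PicF.pullCl (inv (selfIso f))) h
  rwa [PicClLib.pullCl_comp, PicClLib.pullCl_comp, IsIso.inv_hom_id, PicClLib.pullCl_id, PicClLib.pullCl_id] at h1

theorem proj_self : PicF.XTproj f (self (S := S)) = selfIso f ≫ f :=
  ((Category.comp_id _).symm.trans pullback.condition.symm)

theorem pull_pt_self (P : S ⟶ E) (hP : P ≫ f = 𝟙 S) :
    PicF.pullCl (selfIso f) (PicF.cl (ClSub.idealMod P.ker)) = pt f self (pointOf f P hP) := by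
  haveI : IsClosedImmersion P := by
    haveI : IsClosedImmersion (P ≫ f) := by rw [hP]; infer_instance
    exact IsClosedImmersion.of_comp P f
  let s : S ⟶ PicF.XT f (self (S := S)) := pullback.lift P (𝟙 S) (by rw [Category.id_comp]; exact hP)
  have hw : s ≫ selfIso f = 𝟙 S ≫ P := (pullback.lift_fst _ _ _).trans (Category.id_comp P).symm
  have H : IsPullback s (𝟙 S) (selfIso f) P := IsPullback.of_vert_isIso ⟨hw⟩
  have hcomap : P.ker.comap (selfIso f) = s.ker := by
    rw [← Scheme.IdealSheafData.ker_fst_of_isClosedImmersion, ← H.isoPullback_hom_fst,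
      Scheme.Hom.ker_comp_of_isIso]
  obtain ⟨i⟩ := InterDiv.nonempty_pullback_idealMod (selfIso f) P.ker (Elliptic.isEffCartier_e f P hP)
    (hcomap ▸ isEffCartier_sec f self (pointOf f P hP))
  rw [hcomap] at i
  exact PicMul.cl_eq_iff.2 ⟨i⟩

/-- Fibrewise Euler characteristic zero gives geometric degree zero. -/
theorem deg0_of_euler (hχ : ∀ s : S, @FGA.eulerCharLE (S.residueField s) _ (f.fiber s) (f.fiberOverSpecResidueField s)
      (Coh.structureModule (f.fiber s)) 1 = 0) {L : E.Modules} (hL : PicF.IsInvertible L)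
    (hL0 : ∀ s : S, @FGA.eulerCharLE (S.residueField s) _ (f.fiber s) (f.fiberOverSpecResidueField s)
      ((Scheme.Modules.pullback (f.fiberι s)).obj L) 1 = 0)
    {Ω : Type u} [Field Ω] [IsAlgClosed Ω] (σ : Spec (CommRingCat.of Ω) ⟶ (self (S := S)).left) :
    Deg0 f (σ ≫ (self (S := S)).hom) (PicF.pullCl (geomMap f σ) (PicF.pullCl (selfIso f) (PicF.cl L))) := by
  intro M hM
  rw [PicClLib.pullCl_comp] at hM
  obtain ⟨eM⟩ := PicMul.cl_eq_iff.1 hM
  let b := σ ≫ (self (S := S)).hom
  letI := overX f b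
  let s : S := b (IsLocalRing.closedPoint Ω : PrimeSpectrum Ω)
  let k := S.residueField s
  obtain ⟨ψ, hψ⟩ : ∃ ψ : k ⟶ CommRingCat.of Ω, Spec.map ψ ≫ S.fromSpecResidueField s = b :=
    ⟨_, Scheme.descResidueField_stalkClosedPointTo_fromSpecResidueField Ω S b⟩
  letI : Algebra k Ω := ψ.hom.toAlgebra
  letI : (f.fiber s).Over (Spec (CommRingCat.of k)) := ⟨f.fiberToSpecResidueField s⟩
  let gT : Over.mk b ⟶ Over.mk (S.fromSpecResidueField s) := Over.homMk (Spec.map ψ) hψ
  haveI : IsProper (f.fiber s ↘ Spec (CommRingCat.of k)) :=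
    inferInstanceAs (IsProper (pullback.snd f (S.fromSpecResidueField s)))
  haveI : IsProper (PicF.XT f (Over.mk b) ↘ Spec (CommRingCat.of Ω)) :=
    inferInstanceAs (IsProper (pullback.snd f b))
  have sq := S12409.isPullback_XTmap f gT
  have hw : PicF.XTmap f gT ≫ f.fiberι s = geomMap f σ ≫ selfIso f := by
    simp only [PicF.XTmap, selfIso, Scheme.Hom.fiberι]
    exact (pullback.lift_fst _ _ _).trans (pullback.lift_fst _ _ _).symm
  have hL1 := PicClLib.isInvertible_pullback (f.fiberι s) hL
  have eL : (Scheme.Modules.pullback (PicF.XTmap f gT)).obj ((Scheme.Modules.pullback (f.fiberι s)).obj L) ≅ M :=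
    (Scheme.Modules.pullbackComp _ _).app L ≪≫ (Scheme.Modules.pullbackCongr hw).app L ≪≫ eM.symm
  obtain ⟨eO⟩ := PicClLib.nonempty_pullback_structureModule (PicF.XTmap f gT)
  have h1 := JacPoint.eulerCharLE_bc (k := k) (E := Ω) (X := f.fiber s) (X' := PicF.XT f (Over.mk b))
    (PicF.XTmap f gT) sq (JacPoint.isQCoh_of_isInvertible hL1) eL 1
  have h2 := JacPoint.eulerCharLE_bc (k := k) (E := Ω) (X := f.fiber s) (X' := PicF.XT f (Over.mk b))
    (PicF.XTmap f gT) sq QCoh.isQCoh_structureModule eO 1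
  have hd1 : topologicalKrullDim ↥(PicF.XT f (Over.mk b)) ≤ ((1 : ℕ) : WithBot ℕ∞) := by
    rw [dim_X f b (dim_fibre f)]; rfl
  have hMi : PicF.IsInvertible M :=
    H23.PicMul.isInvertible_of_iso eL (PicClLib.isInvertible_pullback _ hL1)
  rw [Pic13Lib.eulerCharLE_eq (k := Ω) hd1 (JacPoint.isQCoh_of_isInvertible hMi)] at h1
  rw [Pic13Lib.eulerCharLE_eq (k := Ω) hd1 QCoh.isQCoh_structureModule] at h2
  unfold Curv2.deg
  rw [Nat.cast_one, one_mul, h1, h2]
  exact sub_eq_zero.2 ((hL0 s).trans (hχ s).symm)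

end Groth.Agent.EllLaw
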