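import Groth.Agent.EllLaw.Fibre
import Groth.Agent.HilbDLib.ClosedSub
import Groth.Agent.RelCurveDiv.Main
import Groth.Agent.MeroX.BaseChange
import Groth.Agent.ModPairLib.Basic
import Groth.Agent.S2501
import Mathlib.AlgebraicGeometry.ZariskisMainTheorem

/-!
# A fibrewise degree one class comes from one section
-/

set_option autoImplicit false
set_option linter.style.haveILetI false
set_option linter.unusedSectionVars false
set_option backward.isDefEq.respectTransparency false
set_option backward.isDefEq.respectTransparency.types false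
set_option maxHeartbeats 1000000

universe u

open CategoryTheory CategoryTheory.Limits AlgebraicGeometry TopologicalSpace

noncomputable section

namespace Groth.Agent.EllLaw

open Groth.Agent Groth.Agent.H23 Groth.Agent.H23.PicMul Groth.Agent.H26 Groth.Agent.Pic13Lib
  Groth.Agent.PicTangent Groth.Agent.PicTangent.JacDiff
open scoped Groth.Agent.H23.PicMul

attribute [local instance] PicMul.clMonoid

section Curve

variable {X : Scheme.{u}} (k : Type u) [Field k] [IsAlgClosed k] [X.Over (Spec (CommRingCat.of k))]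
  [IsIntegral X] [IsProper (X ↘ Spec (CommRingCat.of k))] [Smooth (X ↘ Spec (CommRingCat.of k))]

/-- An effective divisor of degree one on a curve is a rational point. -/
theorem finrank_of_deg_neg_one (hdim : topologicalKrullDim X = 1) {I : X.IdealSheafData}
    (hI : BlowUp.IsEffCartierIdeal I) (hd : Curv2.deg k X (ClSub.idealMod I) 1 = -1) :
    Mor2.IsFinLocFreeOfDeg 1 (I.subschemeι ≫ (X ↘ Spec (CommRingCat.of k))) := by
  let p := X ↘ Spec (CommRingCat.of k)
  have hInv := IdealCl.isInvertible_idealMod hI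
  haveI : Mono (ClSub.idealModι I) := by unfold ClSub.idealModι; infer_instance
  have hne : ClSub.idealModι I ≠ 0 := by
    obtain ⟨L, hL, ⟨α⟩⟩ := PicInv.exists_inverse hInv
    exact CurveEmbed.idealModι_ne_zero α
  obtain ⟨hle, hiso⟩ := CurveDeg.deg_le_and_isIso k hdim.le hInv CurveDeg.isInvertible_structureModule _ hne
  -- some point lies on the divisor
  obtain ⟨z, hzI, hz⟩ : ∃ z : X, z ∈ I.support ∧ IsClosed ({z} : Set X) := by
    haveI : CompactSpace X := QuasiCompact.compactSpace_of_compactSpace p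
    refine (I.support.isClosed.exists_closed_singleton ?_)
    by_contra hemp
    rw [Set.not_nonempty_iff_eq_empty] at hemp
    have hI0 : I = ⊤ := (Scheme.IdealSheafData.support_eq_bot_iff I).1 (SetLike.coe_injective (by rw [hemp]; rfl))
    subst hI0
    obtain ⟨e⟩ : Nonempty (ClSub.idealMod (⊤ : X.IdealSheafData) ≅ Coh.structureModule X) :=
      ⟨((H26.IdealCl.nonempty_iso_of_range (𝟙 (Coh.structureModule X)) ⊤ fun U => by
        rw [Scheme.IdealSheafData.ideal_top]
        refine Set.eq_univ_of_forall fun x => ⟨OmegaSh.strSect X U.1 x, ?_⟩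
        rfl).some).symm⟩
    rw [CurveRR.deg_congr k e 1, CurveDeg.deg_structureModule] at hd
    norm_num at hd
  let s := pointOfClosedPoint p z hz
  have hs : s ≫ p = 𝟙 _ := pointOfClosedPoint_comp p z hz
  haveI : IsClosedImmersion s := by
    haveI : IsClosedImmersion (s ≫ p) := by rw [hs]; infer_instance
    exact IsClosedImmersion.of_comp s p
  have hle' : I ≤ s.ker := by
    refine le_trans (Scheme.IdealSheafData.le_support_iff_le_vanishingIdeal.1 ?_) (le_of_eq ?_) (b := CurvePoint.ptIdeal z hz)
    · exact fun y hy => (Set.mem_singleton_iff.1 hy) ▸ hzI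
    · obtain ⟨hx, hker, -⟩ := CurveEmbed.section_point k s hs
      have hsz : s (IsLocalRing.closedPoint k) = z := pointOfClosedPoint_apply p z hz _
      rw [hker]
      congr 1
      exact hsz.symm
  let J := s.ker
  have hJ : BlowUp.IsEffCartierIdeal J := by
    haveI : ConnectedSpace X := inferInstance
    haveI : GeometricallyConnected p := S2501.result p
    haveI : SmoothOfRelativeDimension 1 p := JacDeg.smoothOfRelativeDimension_one p fun t => by
      rw [← hdim]
      exact (Homeomorph.isHomeomorph ((p.fiberι t).isEmbedding.toHomeomorphOfSurjective fun x =>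
        (p.range_fiberι _).superset (show x ∈ p ⁻¹' {t} from
          Subsingleton.elim (α := ↥(Spec (CommRingCat.of k))) _ _))).topologicalKrullDim_eq
    refine RelCurveDiv.isEffCartier_of_isDiv p (d := 1) ?_
    show Mor2.IsFinLocFreeOfDeg 1 (s.ker.subschemeι ≫ p)
    rw [HilbDLib.finLocFreeOfDeg_ker, hs]
    exact RelCurveDiv.isFinLocFreeOfDeg_one_id _
  have hJd : Curv2.deg k X (ClSub.idealMod J) 1 = -1 := by
    obtain ⟨hx, hker, -⟩ := CurveEmbed.section_point k s hs
    show Curv2.deg k X (ClSub.idealMod s.ker) 1 = -1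
    rw [hker]
    exact CurvePoint.deg_ptMod _ hx k
  have hIJ := comp_toSubscheme_of_le hle'
  let ψ : ClSub.idealMod I ⟶ ClSub.idealMod J := kernel.lift _ (ClSub.idealModι I) hIJ
  have hψ : ψ ≫ ClSub.idealModι J = ClSub.idealModι I := kernel.lift_ι _ _ _
  have hψ0 : ψ ≠ 0 := fun h0 => hne (by rw [← hψ, h0, zero_comp])
  haveI : IsIso ψ := (CurveDeg.deg_le_and_isIso k hdim.le hInv (IdealCl.isInvertible_idealMod hJ) ψ hψ0).2
    (hd.trans hJd.symm)
  have hJI : J ≤ I := AbelSec.le_of_comp_toSubscheme (by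
    rw [← cancel_epi ψ, ← Category.assoc, hψ, comp_zero]
    exact kernel.condition _)
  rw [le_antisymm hle' hJI, HilbDLib.finLocFreeOfDeg_ker, hs]
  exact RelCurveDiv.isFinLocFreeOfDeg_one_id _

end Curve

variable {E S : Scheme.{u}} (f : E ⟶ S) [IsProper f] [SmoothOfRelativeDimension 1 f] [GeometricallyConnected f]

/-- Equality up to classes from the base. -/
def Rel (T : Over S) (c c' : PicF.Cl (PicF.XT f T)) : Prop :=
  ∃ M : T.left.Modules, PicF.IsInvertible M ∧ c = c' * PicF.pullCl (PicF.XTproj f T) (PicF.cl M)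

/-- Classes from the base are trivial on geometric fibres. -/
theorem pull_fromBase {T : Over S} {M : T.left.Modules} (hM : PicF.IsInvertible M)
    {Ω : Type u} [Field Ω] (σ : Spec (CommRingCat.of Ω) ⟶ T.left) :
    PicF.pullCl (geomMap f σ) (PicF.pullCl (PicF.XTproj f T) (PicF.cl M)) = 1 := by
  haveI : Subsingleton ↥(Spec (CommRingCat.of Ω)) := inferInstanceAs (Subsingleton (PrimeSpectrum Ω))
  haveI : Nonempty ↥(Spec (CommRingCat.of Ω)) := inferInstanceAs (Nonempty (PrimeSpectrum Ω))
  rw [PicClLib.pullCl_comp, (isPullback_geomMap f σ).w, ← PicClLib.pullCl_comp,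
    show PicF.pullCl σ (PicF.cl M) = 1 from
      (PicMul.cl_eq_iff.2 (NefPull.triv_of_subsingleton (PicClLib.isInvertible_pullback σ hM))).trans
        PicMul.one_def.symm]
  exact PicMul.pullCl_one _

variable (hg : ∀ s : S, CohIII.fiberRank f (Coh.structureModule E) 1 s = 1)

include hg in
/-- A class of fibrewise degree one is inverse to the ideal of a section, up to the base. -/
theorem exists_section {T : Over S} {N : (PicF.XT f T).Modules} (hN : PicF.IsInvertible N)
    (hd : DegOne f T (PicF.cl N)) : ∃ a : T ⟶ Over.mk f, Rel f T (pt f T a * PicF.cl N) 1 := by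
  let h := PicF.XTproj f T
  let X := PicF.XT f T
  haveI : Smooth f := SmoothOfRelativeDimension.smooth 1 f
  haveI := smoothOfRelativeDimension_isStableUnderBaseChange (n := 1)
  haveI : SmoothOfRelativeDimension 1 h := MorphismProperty.pullback_snd _ _ inferInstance
  haveI : IsProper h := MorphismProperty.pullback_snd _ _ inferInstance
  haveI : Smooth h := MorphismProperty.pullback_snd _ _ inferInstance
  haveI : GeometricallyConnected h := MorphismProperty.pullback_snd _ _ inferInstance
  haveI := JacDeg.geometricallyIntegral h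
  obtain ⟨hG, hc⟩ := pushforward_degOne f hg hN hd
  let G := (Scheme.Modules.pushforward h).obj N
  let A := (Scheme.Modules.pullback h).obj G
  let c : A ⟶ N := (Scheme.Modules.pullbackPushforwardAdjunction h).counit.app N
  have hA : PicF.IsInvertible A := PicClLib.isInvertible_pullback h hG
  obtain ⟨B, hB, ⟨α⟩⟩ := PicInv.exists_inverse hA
  let N' := CohB1.tensorMod N B
  have hN' : PicF.IsInvertible N' := PicMul.isInvertible_tensor hN hB
  let s : Coh.structureModule X ⟶ N' := α.inv ≫ (AmpleVan.tw B).map c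
  let I := PicF2.zeroScheme N' s
  have hloc : ModPairLib.IsLocPrincipal I := fun x => by
    obtain ⟨W, hxW, e, he⟩ := InvX.exists_frame hN' x
    obtain ⟨U, hU, hxU, hUW⟩ := exists_isAffineOpen_mem_and_subset hxW
    have hUW' : U ≤ W := hUW
    obtain ⟨a, ha⟩ := (he.res hUW').exists_coord le_rfl (ZeroSchX.sv s U)
    rw [AModX.res_self] at ha
    exact ⟨⟨U, hU⟩, hxU, a,
      (ZeroSchX.ideal_zeroScheme hN' s ⟨U, hU⟩).trans (ZeroSchX.zeroIdealOn_eq_span s (he.res hUW') ha)⟩
  have hfib : ∀ t : T.left, BlowUp.IsEffCartierIdeal (I.comap (h.fiberι t)) := fun t => by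
    haveI : IsIntegral (h.fiber t) := GeometricallyIntegral.geometrically_isIntegral (f := h) _ _ _
      (IsPullback.of_hasPullback h (T.left.fromSpecResidueField t))
    obtain ⟨y, U, g, hyU, hgA, hgN⟩ := exists_frame_of_pullback_ne_zero (h.fiberι t) hA hN c (hc t)
    obtain ⟨V, hyV, hV⟩ := exists_isFrame_sv hB c α hgA hgN hyU
    refine isEffCartier_of_integral (hloc.comap _) (x := y) ?_
    rw [← SetLike.mem_coe, Scheme.IdealSheafData.support_comap]
    exact Pic13Lib.not_mem_support_of_isFrame hN' s hyV hV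
  obtain ⟨hI, hfl⟩ := MeroX.isEffCartier_flat_of_fibres (f := h)
    (fun x _ => hloc x) hfib
  haveI := mono_of_isEffCartier hN' s hI
  obtain ⟨e₀⟩ := Pic13Lib.nonempty_idealMod_zeroScheme hN' s
  have hcl : PicF.cl N * PicF.cl B * PicF.cl (ClSub.idealMod I) = 1 := by
    rw [← PicMul.cl_tensor, ← PicMul.cl_tensor, PicMul.one_def]
    exact PicMul.cl_eq_iff.2 ⟨e₀⟩
  have hAB : PicF.pullCl h (PicF.cl G) * PicF.cl B = 1 := by
    show PicF.cl A * PicF.cl B = 1
    rw [← PicMul.cl_tensor, PicMul.one_def]
    exact PicMul.cl_eq_iff.2 ⟨α⟩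
  have hrel : PicF.cl (ClSub.idealMod I) * PicF.cl N = PicF.pullCl h (PicF.cl G) := by
    calc PicF.cl (ClSub.idealMod I) * PicF.cl N
        = PicF.cl (ClSub.idealMod I) * PicF.cl N * (PicF.pullCl h (PicF.cl G) * PicF.cl B) := by rw [hAB, mul_one]
      _ = (PicF.cl N * PicF.cl B * PicF.cl (ClSub.idealMod I)) * PicF.pullCl h (PicF.cl G) := by ac_rfl
      _ = _ := by rw [hcl, one_mul]
  -- the subscheme is a section
  let ζ := I.subschemeι ≫ h
  haveI := hfl
  obtain ⟨hqf, hfp⟩ := RelCurveDiv.quasiFinite_fp_of_isEffCartier h I hI hfl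
  haveI : IsFinite ζ := IsFinite.of_isProper_of_locallyQuasiFinite ζ
  have hrank : ∀ t : T.left, ζ.finrank t = 1 := fun t => by
    obtain ⟨Ω, _, _, σ, rfl⟩ := JacProper.exists_geomPoint t
    letI := overX f (σ ≫ T.hom)
    let XΩ := PicF.XT f (Over.mk (σ ≫ T.hom))
    haveI := JacDeg.geometricallyIntegral f
    haveI : IsProper (XΩ ↘ Spec (CommRingCat.of Ω)) := inferInstanceAs (IsProper (pullback.snd f _))
    haveI : Smooth (XΩ ↘ Spec (CommRingCat.of Ω)) := inferInstanceAs (Smooth (pullback.snd f _))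
    haveI : IsIntegral XΩ := isIntegral_X f (σ ≫ T.hom)
    have hX : topologicalKrullDim XΩ = 1 := dim_X f (σ ≫ T.hom) (dim_fibre f)
    let q := geomMap f σ
    let J := I.comap q
    have sq := isPullback_geomMap f σ
    have hJ : BlowUp.IsEffCartierIdeal J := by
      have h1 := BlowUpLib.isEffCartier_comap_flat sq.isoPullback.hom
        (MeroX.isEffCartier_baseChange h I hI σ)
      rw [← Scheme.IdealSheafData.comap_comp, sq.isoPullback_hom_fst] at h1
      exact h1
    obtain ⟨eJ⟩ := InterDiv.nonempty_pullback_idealMod q I hI hJ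
    have hNq := PicClLib.isInvertible_pullback q hN
    have h1 : PicF.cl (ClSub.idealMod J) * PicF.cl ((Scheme.Modules.pullback q).obj N) = 1 := by
      rw [← PicMul.cl_eq_iff.2 ⟨eJ⟩]
      show PicF.pullCl q (PicF.cl _) * PicF.pullCl q (PicF.cl N) = 1
      rw [← PicMul.pullCl_mul, hrel]
      exact pull_fromBase f hG σ
    rw [← PicMul.cl_tensor, PicMul.one_def] at h1
    obtain ⟨e1⟩ := PicMul.cl_eq_iff.1 h1
    have hdJ : Curv2.deg Ω XΩ (ClSub.idealMod J) 1 = -1 := by
      have h2 := (CurveRR.deg_congr Ω e1 1).trans (CurveDeg.deg_structureModule Ω)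
      rw [Pic13Lib.CurveAlgEq.deg_tensorMod hX (IdealCl.isInvertible_idealMod hJ) hNq, hd Ω σ _ rfl] at h2
      omega
    have h3 := finrank_of_deg_neg_one Ω hX hJ hdJ
    have hker : J = (pullback.fst q I.subschemeι).ker := by
      rw [Scheme.IdealSheafData.ker_fst_of_isClosedImmersion, Scheme.IdealSheafData.ker_subschemeι]
    rw [hker, HilbDLib.finLocFreeOfDeg_ker] at h3
    exact (Scheme.Hom.finrank_of_isPullback _ _ ζ σ
      ((IsPullback.of_hasPullback q I.subschemeι).flip.paste_vert sq) _).symm.trans (h3.2 _)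
  haveI : IsIso ζ := (Scheme.Hom.isIso_iff_finrank_eq ζ).2 (funext hrank)
  let P : T.left ⟶ X := inv ζ ≫ I.subschemeι
  have hP : P ≫ h = 𝟙 _ := by rw [Category.assoc]; exact IsIso.inv_hom_id ζ
  have hPk : P.ker = I := by rw [Scheme.Hom.ker_comp_of_isIso, Scheme.IdealSheafData.ker_subschemeι]
  let a : T ⟶ Over.mk f := Over.homMk (P ≫ pullback.fst f T.hom) (by
    show (P ≫ pullback.fst f T.hom) ≫ f = T.hom
    rw [Category.assoc, pullback.condition, ← Category.assoc]
    exact (congrArg (· ≫ T.hom) hP).trans (Category.id_comp _))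
  have hsec : HilbD.secGraph f T a.left (Over.w a) = I := by
    rw [← hPk]
    refine congrArg Scheme.Hom.ker (pullback.hom_ext ?_ ?_)
    · rw [pullback.lift_fst]; rfl
    · rw [pullback.lift_snd]; exact hP.symm
  refine ⟨a, G, hG, ?_⟩
  rw [one_mul, pt, hsec]
  exact hrel

end Groth.Agent.EllLaw
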