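import Groth.Agent.EllLaw.Sect
import Groth.Agent.PicTangent.Elliptic
import Groth.Agent.SeesawX.Crit
import Groth.Agent.CartExt.CurveBigDeg
import Groth.Agent.LefPenLib.Bertini

/-!
# Fibrewise degree one on a family of curves of genus one
-/

set_option autoImplicit false
set_option linter.style.haveILetI false
set_option linter.unusedSectionVars false
set_option backward.isDefEq.respectTransparency false
set_option backward.isDefEq.respectTransparency.types false
set_option maxHeartbeats 1000000

universe u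

open CategoryTheory CategoryTheory.Limits AlgebraicGeometry TopologicalSpace

noncomputable section

namespace Groth.Agent.EllLaw

open Groth.Agent Groth.Agent.H23 Groth.Agent.H23.PicMul Groth.Agent.H26 Groth.Agent.Pic13Lib
  Groth.Agent.PicTangent Groth.Agent.PicTangent.JacDiff
open scoped Groth.Agent.H23.PicMul

attribute [local instance] PicMul.clMonoid

/-- The fibres of a smooth connected family of relative dimension one are curves. -/
theorem dim_fibre {E S : Scheme.{u}} (f : E ⟶ S) [IsProper f] [SmoothOfRelativeDimension 1 f]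
    [GeometricallyConnected f] (s : S) : topologicalKrullDim ↥(f.fiber s) = 1 := by
  haveI : Smooth f := SmoothOfRelativeDimension.smooth 1 f
  haveI := JacDeg.geometricallyIntegral f
  haveI : IsIntegral (f.fiber s) :=
    GeometricallyIntegral.geometrically_isIntegral (f := f) _ _ _ (IsPullback.of_hasPullback f (S.fromSpecResidueField s))
  haveI := smoothOfRelativeDimension_isStableUnderBaseChange (n := 1)
  haveI : SmoothOfRelativeDimension 1 (f.fiberToSpecResidueField s) :=
    MorphismProperty.pullback_snd (P := @SmoothOfRelativeDimension 1) f (S.fromSpecResidueField s) inferInstance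
  exact LefPenLib.topologicalKrullDim_eq_of_smoothRelDim (k := S.residueField s) (f.fiberToSpecResidueField s)

variable {E S : Scheme.{u}} (f : E ⟶ S) [IsProper f] [SmoothOfRelativeDimension 1 f] [GeometricallyConnected f]

section Geometric

variable {T : Over S} {Ω : Type u} [Field Ω] (σ : Spec (CommRingCat.of Ω) ⟶ T.left)

/-- The map from a geometric fibre. -/
abbrev geomMap : PicF.XT f (Over.mk (σ ≫ T.hom)) ⟶ PicF.XT f T :=
  PicF.XTmap f (Over.homMk σ rfl : Over.mk (σ ≫ T.hom) ⟶ T)

theorem isPullback_geomMap :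
    IsPullback (geomMap f σ) (PicF.XTproj f (Over.mk (σ ≫ T.hom))) (PicF.XTproj f T) σ :=
  S12409.isPullback_XTmap f (Over.homMk σ rfl : Over.mk (σ ≫ T.hom) ⟶ T)

/-- Fibre ranks are dimensions on geometric fibres. -/
theorem fiberRank_geom {M : (PicF.XT f T).Modules} (hM : Coh.IsQCoh M) (i : ℕ) :
    letI := overX f (σ ≫ T.hom)
    Module.finrank Ω (Coh.HH (PicF.XT f (Over.mk (σ ≫ T.hom))) ((Scheme.Modules.pullback (geomMap f σ)).obj M) i) =
      CohIII.fiberRank (PicF.XTproj f T) M i (σ (IsLocalRing.closedPoint Ω : PrimeSpectrum Ω)) := by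
  letI := overX f (σ ≫ T.hom)
  let h := PicF.XTproj f T
  let t : T.left := σ (IsLocalRing.closedPoint Ω : PrimeSpectrum Ω)
  let k := T.left.residueField t
  obtain ⟨ψ, hψ⟩ : ∃ ψ : k ⟶ CommRingCat.of Ω, Spec.map ψ ≫ T.left.fromSpecResidueField t = σ :=
    ⟨_, Scheme.descResidueField_stalkClosedPointTo_fromSpecResidueField Ω T.left σ⟩
  letI : Algebra k Ω := ψ.hom.toAlgebra
  haveI : IsProper h := MorphismProperty.pullback_snd _ _ inferInstance
  letI : (h.fiber t).Over (Spec (CommRingCat.of k)) := ⟨h.fiberToSpecResidueField t⟩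
  haveI : IsProper (h.fiber t ↘ Spec (CommRingCat.of k)) :=
    inferInstanceAs (IsProper (pullback.snd h (T.left.fromSpecResidueField t)))
  haveI : CompactSpace ↥(h.fiber t) :=
    QuasiCompact.compactSpace_of_compactSpace (h.fiber t ↘ Spec (CommRingCat.of k))
  haveI : (h.fiber t).IsSeparated := ⟨by
    rw [← Limits.terminal.comp_from (h.fiber t ↘ Spec (CommRingCat.of k))]
    infer_instance⟩
  have sq := isPullback_geomMap f σ
  let g : PicF.XT f (Over.mk (σ ≫ T.hom)) ⟶ h.fiber t :=
    pullback.lift (geomMap f σ) (PicF.XTproj f (Over.mk (σ ≫ T.hom)) ≫ Spec.map ψ)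
      (by rw [Category.assoc, hψ]; exact sq.w)
  have hg : g ≫ h.fiberι t = geomMap f σ := pullback.lift_fst _ _ _
  have hpb : IsPullback g (PicF.XT f (Over.mk (σ ≫ T.hom)) ↘ Spec (CommRingCat.of Ω))
      (h.fiber t ↘ Spec (CommRingCat.of k)) (Spec.map (CommRingCat.ofHom (algebraMap k Ω))) :=
    IsPullback.of_right (h₁₂ := h.fiberι t) (v₁₃ := h) (h₂₂ := T.left.fromSpecResidueField t)
      (by rw [hg]; exact hψ.symm ▸ sq) (pullback.lift_snd _ _ _) (IsPullback.of_hasPullback _ _)
  refine Eq.trans ?_ (CurveBC.finrank_hh k Ω g hpb _ (QCoh.isQCoh_pullback (h.fiberι t) hM) i)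
  exact (CurveCohLib.hhEquiv (k := Ω) ((Scheme.Modules.pullbackComp g (h.fiberι t)).app M ≪≫
    (Scheme.Modules.pullbackCongr hg).app M).symm i).finrank_eq

end Geometric

/-- Genus one from a vanishing Euler characteristic. -/
theorem genus_one (hχ : ∀ s : S, @FGA.eulerCharLE (S.residueField s) _ (f.fiber s) (f.fiberOverSpecResidueField s)
      (Coh.structureModule (f.fiber s)) 1 = 0) (s : S) :
    CohIII.fiberRank f (Coh.structureModule E) 1 s = 1 := by
  haveI : Smooth f := SmoothOfRelativeDimension.smooth 1 f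
  haveI := JacDeg.geometricallyIntegral f
  obtain ⟨Ω, _, _, b, hb⟩ := JacProper.exists_geomPoint s
  letI := overX f b
  let k := S.residueField s
  obtain ⟨ψ, hψ⟩ : ∃ ψ : k ⟶ CommRingCat.of Ω, Spec.map ψ ≫ S.fromSpecResidueField s = b := by
    subst hb
    exact ⟨_, Scheme.descResidueField_stalkClosedPointTo_fromSpecResidueField Ω S b⟩
  letI : Algebra k Ω := ψ.hom.toAlgebra
  letI : (f.fiber s).Over (Spec (CommRingCat.of k)) := ⟨f.fiberToSpecResidueField s⟩
  let gT : Over.mk b ⟶ Over.mk (S.fromSpecResidueField s) := Over.homMk (Spec.map ψ) hψ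
  haveI : IsProper (f.fiber s ↘ Spec (CommRingCat.of k)) :=
    inferInstanceAs (IsProper (pullback.snd f (S.fromSpecResidueField s)))
  haveI : CompactSpace ↥(f.fiber s) :=
    QuasiCompact.compactSpace_of_compactSpace (f.fiber s ↘ Spec (CommRingCat.of k))
  haveI : (f.fiber s).IsSeparated := ⟨by
    rw [← Limits.terminal.comp_from (f.fiber s ↘ Spec (CommRingCat.of k))]
    infer_instance⟩
  haveI : IsProper (PicF.XT f (Over.mk b) ↘ Spec (CommRingCat.of Ω)) :=
    inferInstanceAs (IsProper (pullback.snd f b))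
  haveI : Smooth (PicF.XT f (Over.mk b) ↘ Spec (CommRingCat.of Ω)) :=
    inferInstanceAs (Smooth (pullback.snd f b))
  haveI : IsIntegral (PicF.XT f (Over.mk b)) := isIntegral_X f b
  have h0 : Module.finrank k (Coh.HH (f.fiber s) (Coh.structureModule _) 0) = 1 :=
    (CurveBC.finrank_hh_unit (X := f.fiber s) k Ω (PicF.XTmap f gT)
      (S12409.isPullback_XTmap f gT) 0).symm.trans (CurveCohLib.finrank_h0_eq_one Ω _)
  obtain ⟨e⟩ := PicClLib.nonempty_pullback_structureModule (f.fiberι s)
  have he := (CurveCohLib.hhEquiv (k := k) e 1).finrank_eq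
  have h1 := hχ s
  unfold FGA.eulerCharLE at h1
  rw [Finset.sum_range_succ, Finset.sum_range_succ, Finset.sum_range_zero] at h1
  rw [show Module.finrank k (Coh.HH (f.fiber s) (Coh.structureModule _) 0) = 1 from h0] at h1
  simp only [pow_zero, pow_one, one_mul, neg_one_mul, zero_add, Nat.cast_one] at h1
  show Module.finrank k (Coh.HH (f.fiber s) ((Scheme.Modules.pullback (f.fiberι s)).obj _) 1) = 1
  refine he.trans (Int.natCast_inj.1 ?_)
  change (1 : ℤ) + -((Module.finrank k (Coh.HH (f.fiber s) (Coh.structureModule _) 1) : ℕ) : ℤ) = 0 at h1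
  rw [Nat.cast_one]
  linarith

variable (hg : ∀ s : S, CohIII.fiberRank f (Coh.structureModule E) 1 s = 1)

/-- Fibrewise degree one. -/
def DegOne (T : Over S) (c : PicF.Cl (PicF.XT f T)) : Prop :=
  ∀ (Ω : Type u) [Field Ω] [IsAlgClosed Ω] (σ : Spec (CommRingCat.of Ω) ⟶ T.left)
    (M : (PicF.XT f (Over.mk (σ ≫ T.hom))).Modules),
    PicF.pullCl (geomMap f σ) c = PicF.cl M →
      letI := overX f (σ ≫ T.hom)
      Curv2.deg Ω (PicF.XT f (Over.mk (σ ≫ T.hom))) M 1 = 1

include hg in
/-- On a geometric fibre of genus one a class of degree one has exactly one section and no higher cohomology. -/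
theorem geom_cohom {Ω : Type u} [Field Ω] [IsAlgClosed Ω] (b : Spec (CommRingCat.of Ω) ⟶ S)
    {M : (PicF.XT f (Over.mk b)).Modules} (hM : PicF.IsInvertible M)
    (h : letI := overX f b; Curv2.deg Ω (PicF.XT f (Over.mk b)) M 1 = 1) :
    letI := overX f b
    Module.finrank Ω (Coh.HH (PicF.XT f (Over.mk b)) M 0) = 1 ∧
      Module.finrank Ω (Coh.HH (PicF.XT f (Over.mk b)) M 1) = 0 := by
  letI := overX f b
  haveI : Smooth f := SmoothOfRelativeDimension.smooth 1 f
  haveI := JacDeg.geometricallyIntegral f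
  let X := PicF.XT f (Over.mk b)
  haveI : IsProper (X ↘ Spec (CommRingCat.of Ω)) := inferInstanceAs (IsProper (pullback.snd f b))
  haveI : Smooth (X ↘ Spec (CommRingCat.of Ω)) := inferInstanceAs (Smooth (pullback.snd f b))
  haveI : IsIntegral X := isIntegral_X f b
  have hX : topologicalKrullDim X = 1 := dim_X f b (dim_fibre f)
  have hgen : Module.finrank Ω (Coh.HH X (Coh.structureModule X) 1) = 1 := (AbelSec.genus_fibre f b).trans (hg _)
  haveI : Subsingleton (Coh.HH X M 1) := CartExt.subsingleton_HH_one_of_deg Ω hX.le hM (by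
    rw [h, show Curv2.genus Ω X = 1 from hgen]; norm_num)
  have h1 : Module.finrank Ω (Coh.HH X M 1) = 0 := Module.finrank_zero_of_subsingleton
  refine ⟨?_, h1⟩
  unfold Curv2.deg at h
  rw [CurveRR.euler_eq_h0_sub_h1 Ω hX.le (JacPoint.isQCoh_of_isInvertible hM),
    CurveRR.euler_eq_h0_sub_h1 Ω hX.le QCoh.isQCoh_structureModule, CurveCohLib.finrank_h0_eq_one Ω X, hgen, h1] at h
  simp only [Nat.cast_zero, Nat.cast_one, sub_self, mul_zero, sub_zero] at h
  exact_mod_cast h

include hg in
/-- The same on all fibres. -/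
theorem fibre_cohom {T : Over S} {N : (PicF.XT f T).Modules} (hN : PicF.IsInvertible N)
    (hd : DegOne f T (PicF.cl N)) (t : T.left) :
    CohIII.fiberRank (PicF.XTproj f T) N 0 t = 1 ∧ Subsingleton (CohIII.fiberH (PicF.XTproj f T) N t 1) := by
  obtain ⟨Ω, _, _, σ, rfl⟩ := JacProper.exists_geomPoint t
  obtain ⟨h0, h1⟩ := geom_cohom f hg (σ ≫ T.hom) (PicClLib.isInvertible_pullback (geomMap f σ) hN) (hd Ω σ _ rfl)
  have hq := JacPoint.isQCoh_of_isInvertible hN
  rw [fiberRank_geom f σ hq] at h0 h1
  refine ⟨h0, ?_⟩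
  let h := PicF.XTproj f T
  let z : T.left := σ (IsLocalRing.closedPoint Ω : PrimeSpectrum Ω)
  haveI : IsProper h := MorphismProperty.pullback_snd _ _ inferInstance
  letI : (h.fiber z).Over (Spec (CommRingCat.of (T.left.residueField z))) := ⟨h.fiberToSpecResidueField z⟩
  haveI : IsProper (h.fiber z ↘ Spec (CommRingCat.of (T.left.residueField z))) :=
    inferInstanceAs (IsProper (pullback.snd h (T.left.fromSpecResidueField z)))
  haveI := CurveCohLib.isNoetherian_of_proper (k := T.left.residueField z) (X := h.fiber z)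
  haveI : Module.Finite (T.left.residueField z) (CohIII.fiberH h N z 1) :=
    CurveCohLib.finite_HH (k := T.left.residueField z)
      (CurveDeg.isCoh_of_isInvertible (PicClLib.isInvertible_pullback (h.fiberι z) hN)) 1
  exact Module.finrank_zero_iff.1 h1

include hg in
/-- The direct image of a fibrewise degree one module is invertible and evaluation is nowhere zero. -/
theorem pushforward_degOne {T : Over S} {N : (PicF.XT f T).Modules} (hN : PicF.IsInvertible N)
    (hd : DegOne f T (PicF.cl N)) :
    PicF.IsInvertible ((Scheme.Modules.pushforward (PicF.XTproj f T)).obj N) ∧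
      ∀ t : T.left, (Scheme.Modules.pullback ((PicF.XTproj f T).fiberι t)).map
        ((Scheme.Modules.pullbackPushforwardAdjunction (PicF.XTproj f T)).counit.app N) ≠ 0 := by
  let h := PicF.XTproj f T
  let X := PicF.XT f T
  haveI : Smooth f := SmoothOfRelativeDimension.smooth 1 f
  haveI : IsProper h := MorphismProperty.pullback_snd _ _ inferInstance
  haveI : Smooth h := MorphismProperty.pullback_snd _ _ inferInstance
  haveI : HasInjectiveResolutions X.Modules := KFlatLib.hasInjectiveResolutions_modules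
  haveI := SpObjSS.enoughInjectives_of_hasInjectiveResolutions (C := X.Modules)
  haveI := QCoh.preservesFiniteLimits_push h
  have hlf : FlatMod.IsFinLocFree N := fun x => (SeesawX.isFinLocFreeOfRank_one hN x).elim fun U e => ⟨U, 1, e⟩
  have hfp := QCoh.isFP_of_isFinLocFree hlf
  have hfl : FlatMod.IsFlatOver h N := H23.Seesaw.isFlatOver_of_isInvertible h hN
  have hq := QCoh.isQCoh_of_isFP hfp
  let G := (Scheme.Modules.pushforward h).obj N
  let i : (Coh.Rpush h 0).obj N ≅ G := (Scheme.Modules.pushforward h).rightDerivedZeroIsoSelf.app _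
  have key := fibre_cohom f hg hN hd
  choose V hV e using fun t => CohPullX.exists_free_of_neighbours hfp hfl t 0 (key t).2 (fun j hj => by omega)
  have hG1 : FlatMod.IsFinLocFreeOfRank 1 G := fun t => ⟨V t, hV t,
    ⟨(Scheme.Modules.restrictFunctor (V t).ι).mapIso i.symm ≪≫ (e t).some ≪≫ eqToIso (by rw [(key t).1])⟩⟩
  refine ⟨SeesawX.isInvertible_of_rank_one hG1, fun t hzero => ?_⟩
  obtain ⟨W, hW, hk⟩ := CohPullX.exists_kerBC_nhd_of_H1_zero hfp hfl t (key t).2
  haveI : IsIso (CohBC.bc0 h (T.left.fromSpecResidueField t) (h.fiberToSpecResidueField t) (h.fiberι t) (h.fiber_fac t) N) :=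
    CohPullX.isIso_bc0_of_hasKerBC (IsPullback.of_hasPullback h (T.left.fromSpecResidueField t)) hq
      fun z => ⟨W, by rw [Scheme.fromSpecResidueField_apply]; exact hW, hk⟩
  rw [SeesawX.counit_baseChange h (T.left.fromSpecResidueField t) (h.fiberToSpecResidueField t) (h.fiberι t)
    (h.fiber_fac t) N] at hzero
  let π := h.fiberToSpecResidueField t
  let Nt := (Scheme.Modules.pullback (h.fiberι t)).obj N
  let ε := (Scheme.Modules.pullbackPushforwardAdjunction π).counit.app Nt
  have hε : ε = 0 := by
    rw [← Category.assoc] at hzero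
    exact (cancel_epi _).1 (hzero.trans comp_zero.symm)
  have hid : 𝟙 ((Scheme.Modules.pushforward π).obj Nt) = 0 := by
    rw [← (Scheme.Modules.pullbackPushforwardAdjunction π).right_triangle_components Nt]
    show _ ≫ (Scheme.Modules.pushforward π).map ε = 0
    haveI : (Scheme.Modules.pushforward π).PreservesZeroMorphisms := inferInstance
    rw [hε, Functor.map_zero, comp_zero]
  haveI : Subsingleton (CohIII.fiberH h N t 0) :=
    subsingleton_of_forall_eq 0 fun v => (Sheaf.H.equiv₀ (Coh.toAb Nt) isTerminalTop).injective <| by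
      rw [map_zero]
      exact congrArg (fun φ : (Scheme.Modules.pushforward π).obj Nt ⟶ (Scheme.Modules.pushforward π).obj Nt =>
        φ.app ⊤ (show Γ(Nt, π ⁻¹ᵁ ⊤) from Sheaf.H.equiv₀ (Coh.toAb Nt) isTerminalTop v)) hid
  have h0 := (key t).1
  rw [show CohIII.fiberRank h N 0 t = 0 from Module.finrank_zero_of_subsingleton] at h0
  exact zero_ne_one h0

end Groth.Agent.EllLaw
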