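import Groth.Agent.EllLaw.Fibre

/-!
# Sections with equivalent ideals coincide
-/

set_option autoImplicit false
set_option linter.style.haveILetI false
set_option linter.unusedSectionVars false
set_option backward.isDefEq.respectTransparency false
set_option backward.isDefEq.respectTransparency.types false
set_option maxHeartbeats 1000000

universe u

open CategoryTheory CategoryTheory.Limits AlgebraicGeometry TopologicalSpace

noncomputable section

namespace Groth.Agent.EllLaw

open Groth.Agent Groth.Agent.H23 Groth.Agent.H23.PicMul Groth.Agent.H26 Groth.Agent.Pic13Lib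
  Groth.Agent.PicTangent Groth.Agent.PicTangent.JacDiff
open scoped Groth.Agent.H23.PicMul

attribute [local instance] PicMul.clMonoid

/-- A map carrying a frame to a frame is not zero on a scheme meeting the open. -/
theorem pullback_ne_zero_of_frame {X Y : Scheme.{u}} (i : Y ⟶ X) {A B : X.Modules} (c : A ⟶ B)
    {U : X.Opens} {g : Γ(A, U)} (hg : InvX.IsFrame (c.app U g)) {y : Y} (hy : i y ∈ U) :
    (Scheme.Modules.pullback i).map c ≠ 0 := fun h0 => by
  have h1 : InvX.pullElt i (c.app U g) = 0 := by
    rw [← InvX.map_pullElt, h0]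
    rfl
  have h2 := ((InvX.isFrame_pullElt i hg) (i ⁻¹ᵁ U) le_rfl).1
    (a₁ := (1 : Γ(Y, i ⁻¹ᵁ U))) (a₂ := 0) (by simp [h1, AModX.res_self])
  haveI : Nonempty (i ⁻¹ᵁ U : Y.Opens) := ⟨⟨y, hy⟩⟩
  exact one_ne_zero h2

theorem map_eq_zero_of_iso {C D : Type*} [Category C] [Category D] [Limits.HasZeroMorphisms D] {F G : C ⥤ D}
    (e : F ≅ G) {A B : C} (φ : A ⟶ B) (h : G.map φ = 0) : F.map φ = 0 := by
  rw [← cancel_mono (e.hom.app B), e.hom.naturality, h, comp_zero, zero_comp]

variable {E S : Scheme.{u}} (f : E ⟶ S) [IsProper f] [SmoothOfRelativeDimension 1 f] [GeometricallyConnected f]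
  (hg : ∀ s : S, CohIII.fiberRank f (Coh.structureModule E) 1 s = 1)

theorem degOne_ptInv (T : Over S) (a : T ⟶ Over.mk f) : DegOne f T (ptInv f T a) :=
  fun Ω _ _ σ M hM => by
    have h1 : PicF.cl M = ptInv f (Over.mk (σ ≫ T.hom)) ((Over.homMk σ rfl : Over.mk (σ ≫ T.hom) ⟶ T) ≫ a) := by
      rw [← hM]
      exact pull_ptInv f _ a
    obtain ⟨J, hJc, hJ⟩ := ptInv_invertible f (Over.mk (σ ≫ T.hom))
      ((Over.homMk σ rfl : Over.mk (σ ≫ T.hom) ⟶ T) ≫ a)
    obtain ⟨e⟩ := PicMul.cl_eq_iff.1 (h1.trans hJc.symm)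
    exact AbelSec.deg_ptInv f (σ ≫ T.hom) _ (dim_fibre f) (H23.PicMul.isInvertible_of_iso e.symm hJ) h1

include hg in
/-- Sections with isomorphic ideals coincide. -/
theorem eq_of_pt_eq {T : Over S} (a a' : T ⟶ Over.mk f) (heq : pt f T a = pt f T a') : a = a' := by
  let X := PicF.XT f T
  let h := PicF.XTproj f T
  haveI : Smooth f := SmoothOfRelativeDimension.smooth 1 f
  haveI : IsProper h := MorphismProperty.pullback_snd _ _ inferInstance
  let Ia := HilbD.secGraph f T a.left (Over.w a)
  let Ib := HilbD.secGraph f T a'.left (Over.w a')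
  obtain ⟨θ⟩ : Nonempty (ClSub.idealMod Ia ≅ ClSub.idealMod Ib) := PicMul.cl_eq_iff.1 heq
  have hIa := IdealCl.isInvertible_idealMod (isEffCartier_sec f T a)
  let J := (PicInv.exists_inverse hIa).choose
  obtain ⟨hJ, ⟨α⟩⟩ := (PicInv.exists_inverse hIa).choose_spec
  haveI : (AmpleVan.tw J).IsEquivalence := AmpleVan.isEquivalence_tw hJ
  let N : X.Modules := (AmpleVan.tw J).obj (Coh.structureModule X)
  have hN : PicF.IsInvertible N := PicMul.isInvertible_tensor InvX.isInvertible_structureModule hJ
  have hNc : PicF.cl N = ptInv f T a := by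
    show PicF.cl (CohB1.tensorMod (Coh.structureModule X) J) = _
    rw [PicMul.cl_tensor, ← PicMul.one_def, one_mul]
    rfl
  obtain ⟨hG, -⟩ := pushforward_degOne f hg hN (hNc ▸ degOne_ptInv f T a)
  let sg : Coh.structureModule X ⟶ N := α.inv ≫ (AmpleVan.tw J).map (ClSub.idealModι Ia)
  let sh : Coh.structureModule X ⟶ N := α.inv ≫ (AmpleVan.tw J).map (θ.hom ≫ ClSub.idealModι Ib)
  let s : T.left ⟶ X := pullback.lift a.left (𝟙 _) (by rw [Category.id_comp]; exact Over.w a)
  let s' : T.left ⟶ X := pullback.lift a'.left (𝟙 _) (by rw [Category.id_comp]; exact Over.w a')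
  -- the canonical section is nonzero on every fibre
  have hsg : ∀ t : T.left, (Scheme.Modules.pullback (h.fiberι t)).map sg ≠ 0 := fun t => by
    obtain ⟨y, hy⟩ : ∃ y, h.fiberι t y ∉ Ia.support := by
      by_contra! hall
      haveI : IsClosedImmersion s := by
        haveI : IsClosedImmersion (s ≫ h) := by rw [pullback.lift_snd]; infer_instance
        exact IsClosedImmersion.of_comp s h
      have hrng : ∀ y, h.fiberι t y = s t := fun y => by
        have h1 := hall y
        rw [← SetLike.mem_coe, show Ia = s.ker from rfl, Scheme.Hom.support_ker] at h1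
        change h.fiberι t y ∈ closure (Set.range s) at h1
        rw [s.isClosedEmbedding.isClosed_range.closure_eq] at h1
        obtain ⟨z, hz⟩ := h1
        have h2 : h (h.fiberι t y) = t := (h.range_fiberι t).subset ⟨y, rfl⟩
        rw [← hz, ← Scheme.Hom.comp_apply, pullback.lift_snd] at h2
        rw [← hz, show z = t from h2]
      haveI : Subsingleton ↥(h.fiber t) :=
        ⟨fun y y' => (h.fiberι t).isEmbedding.injective ((hrng y).trans (hrng y').symm)⟩
      haveI : SmoothOfRelativeDimension 1 h :=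
        haveI := smoothOfRelativeDimension_isStableUnderBaseChange (n := 1)
        MorphismProperty.pullback_snd _ _ inferInstance
      haveI : GeometricallyConnected h := MorphismProperty.pullback_snd _ _ inferInstance
      have h3 := (dim_fibre h t).symm.le.trans (topologicalKrullDim_zero_of_discreteTopology ↥(h.fiber t))
      norm_num at h3
    obtain ⟨U₀, hyU₀, e₀, he₀⟩ := InvX.exists_frame hIa (h.fiberι t y)
    obtain ⟨U, hU, hyU, hUU⟩ := exists_isAffineOpen_mem_and_subset
      (show h.fiberι t y ∈ U₀ ⊓ Ia.support.compl from ⟨hyU₀, hy⟩)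
    have hUU' : U ≤ U₀ := fun z hz => (hUU hz).1
    let e := AModX.res (ClSub.idealMod Ia) hUU' e₀
    have htop : Ia.ideal ⟨U, hU⟩ = ⊤ := BlowUpX.ideal_eq_top_of_disjoint Ia ⟨U, hU⟩ fun z hz => (hUU hz).2
    have hu : IsUnit (OmegaSh.idealSect Ia U e) := by
      obtain ⟨k, hk⟩ := OmegaLib.exists_of_mem Ia ⟨U, hU⟩ 1 (htop ▸ Submodule.mem_top)
      obtain ⟨r, hr⟩ := (he₀.res hUU').exists_coord le_rfl k
      rw [AModX.res_self] at hr
      rw [hr, OmegaLib.idealSect_smul, mul_comm] at hk
      exact IsUnit.of_mul_eq_one r hk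
    have he : InvX.IsFrame ((ClSub.idealModι Ia).app U e) := by
      have h1 := (InvX.isFrame_one (X := X) U).isUnit_smul hu
      have h2 : (ClSub.idealModι Ia).app U e =
          OmegaSh.idealSect Ia U e • (show Γ(Coh.structureModule X, U) from (1 : Γ(X, U))) :=
        (mul_one (show Γ(X, U) from OmegaSh.idealSect Ia U e)).symm
      rw [h2]
      exact h1
    obtain ⟨V, hyV, hV⟩ := exists_isFrame_sv hJ (ClSub.idealModι Ia) α (he₀.res hUU') he hyU
    exact pullback_ne_zero_of_frame (h.fiberι t) sg
      (g := (show Γ(Coh.structureModule X, V) from (1 : Γ(X, V)))) hV hyV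
  -- its adjoint is an isomorphism
  let G := (Scheme.Modules.pushforward h).obj N
  let adj := Scheme.Modules.pullbackPushforwardAdjunction h
  obtain ⟨u⟩ := PicClLib.nonempty_pullback_structureModule h
  let tg : Coh.structureModule T.left ⟶ G := adj.homEquiv _ _ (u.hom ≫ sg)
  let th : Coh.structureModule T.left ⟶ G := adj.homEquiv _ _ (u.hom ≫ sh)
  have htg : (Scheme.Modules.pullback h).map tg ≫ adj.counit.app N = u.hom ≫ sg := by
    refine (Adjunction.homEquiv_counit adj _ _ _).symm.trans ?_
    exact (adj.homEquiv _ _).symm_apply_apply _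
  have hth : (Scheme.Modules.pullback h).map th ≫ adj.counit.app N = u.hom ≫ sh := by
    refine (Adjunction.homEquiv_counit adj _ _ _).symm.trans ?_
    exact (adj.homEquiv _ _).symm_apply_apply _
  haveI : IsIso tg := by
    refine DivX.isIso_of_frames tg fun t => ?_
    have hne : (Scheme.Modules.pullback (T.left.fromSpecResidueField t)).map tg ≠ 0 := by
      intro h0
      refine hsg t ?_
      have h3 : (Scheme.Modules.pullback (h.fiberToSpecResidueField t ≫ T.left.fromSpecResidueField t)).map tg = 0 :=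
        map_eq_zero_of_iso (Scheme.Modules.pullbackComp _ _).symm tg
          ((congrArg (Scheme.Modules.pullback (h.fiberToSpecResidueField t)).map h0).trans (Functor.map_zero _ _ _))
      have h1 : (Scheme.Modules.pullback (h.fiberι t)).map ((Scheme.Modules.pullback h).map tg) = 0 :=
        map_eq_zero_of_iso (Scheme.Modules.pullbackComp (h.fiberι t) h) tg
          (map_eq_zero_of_iso (Scheme.Modules.pullbackCongr (h.fiber_fac t)) tg h3)
      have h4 : (Scheme.Modules.pullback (h.fiberι t)).map (u.hom ≫ sg) = 0 := by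
        rw [← htg, Functor.map_comp, h1, zero_comp]
      rw [Functor.map_comp] at h4
      exact (cancel_epi _).1 (h4.trans comp_zero.symm)
    haveI : IsReduced (Spec (T.left.residueField t)) := inferInstance
    obtain ⟨y, U, g, hyU, hgO, hgG⟩ := exists_frame_of_pullback_ne_zero (T.left.fromSpecResidueField t)
      InvX.isInvertible_structureModule hG tg hne
    rw [Scheme.fromSpecResidueField_apply] at hyU
    exact ⟨U, hyU, g, hgO, hgG⟩
  let ρ : Coh.structureModule X ⟶ Coh.structureModule X :=
    u.inv ≫ (Scheme.Modules.pullback h).map (th ≫ inv tg) ≫ u.hom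
  have hsh : sh = ρ ≫ sg := by
    rw [← cancel_epi u.hom, ← hth]
    simp only [ρ, Category.assoc, Iso.hom_inv_id_assoc]
    rw [← htg, ← Category.assoc ((Scheme.Modules.pullback h).map _), ← Functor.map_comp, Category.assoc,
      IsIso.inv_hom_id, Category.comp_id]
  obtain ⟨ψ, hψ⟩ := (AmpleVan.tw J).map_surjective
    ((α.hom ≫ ρ ≫ α.inv : (AmpleVan.tw J).obj (ClSub.idealMod Ia) ⟶ (AmpleVan.tw J).obj (ClSub.idealMod Ia)))
  have hfac : θ.hom ≫ ClSub.idealModι Ib = ψ ≫ ClSub.idealModι Ia := by
    refine (AmpleVan.tw J).map_injective ?_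
    rw [Functor.map_comp (AmpleVan.tw J) ψ, hψ]
    refine (cancel_epi α.inv).1 ?_
    simpa only [sh, sg, Category.assoc, Iso.inv_hom_id_assoc] using hsh
  have hq : ClSub.idealModι Ib ≫ ClSub.toSubscheme Ia = 0 := by
    refine (cancel_epi θ.hom).1 ?_
    rw [← Category.assoc, hfac, Category.assoc, comp_zero]
    exact (congrArg (ψ ≫ ·) (kernel.condition _)).trans comp_zero
  have hle : Ib ≤ Ia := AbelSec.le_of_comp_toSubscheme hq
  haveI : IsClosedImmersion s' := by
    haveI : IsClosedImmersion (s' ≫ pullback.snd f T.hom) := by rw [pullback.lift_snd]; infer_instance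
    exact IsClosedImmersion.of_comp s' (pullback.snd f T.hom)
  have hf := IsClosedImmersion.lift_fac s' s hle
  have hlift : IsClosedImmersion.lift s' s hle = 𝟙 _ := by
    have e := congrArg (· ≫ pullback.snd f T.hom) hf
    simpa only [Category.assoc, s, s', pullback.lift_snd, Category.comp_id] using e
  rw [hlift, Category.id_comp] at hf
  refine Over.OverMorphism.ext ?_
  have := congrArg (· ≫ pullback.fst f T.hom) hf
  simpa only [s, s', pullback.lift_fst] using this.symm

include hg in
/-- Sections with ideals equivalent modulo the base coincide. -/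
theorem eq_of_rel {T : Over S} (a a' : T ⟶ Over.mk f) {M : T.left.Modules} (hM : PicF.IsInvertible M)
    (heq : pt f T a = pt f T a' * PicF.pullCl (PicF.XTproj f T) (PicF.cl M)) : a = a' := by
  choose V hV e using hM
  have hcov : IsOpenCover V := top_le_iff.1 fun t _ => Opens.mem_iSup.2 ⟨t, hV t⟩
  refine Over.OverMorphism.ext ((T.left.openCoverOfIsOpenCover V hcov).hom_ext _ _ fun t => ?_)
  let T' : Over S := Over.mk ((V t).ι ≫ T.hom)
  let g : T' ⟶ T := Over.homMk (V t).ι rfl
  have h1 : PicF.pullCl (V t).ι (PicF.cl M) = 1 := by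
    rw [PicMul.one_def]
    exact PicMul.cl_eq_iff.2 ⟨((Scheme.Modules.restrictFunctorIsoPullback (V t).ι).app M).symm ≪≫ (e t).some⟩
  have h2 : pt f T' (g ≫ a) = pt f T' (g ≫ a') := by
    rw [← pull_pt, heq, PicMul.pullCl_mul, pull_pt, PicClLib.pullCl_comp]
    have hw : PicF.XTmap f g ≫ PicF.XTproj f T = PicF.XTproj f T' ≫ g.left :=
      (S12409.isPullback_XTmap f g).w
    rw [hw, ← PicClLib.pullCl_comp, show PicF.pullCl g.left (PicF.cl M) = 1 from h1, PicMul.pullCl_one, mul_one]
  exact congrArg (fun m : T' ⟶ Over.mk f => m.left) (eq_of_pt_eq f hg _ _ h2)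

end Groth.Agent.EllLaw
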