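import Groth.Agent.EllLaw.Divisor
import Groth.Agent.EllLaw.Unique
import Mathlib.CategoryTheory.Monoidal.Cartesian.CommGrp_
import Mathlib.CategoryTheory.Monoidal.Cartesian.Over

/-!
# The chord–tangent law through divisor classes
-/

set_option autoImplicit false
set_option linter.style.haveILetI false
set_option linter.unusedSectionVars false
set_option backward.isDefEq.respectTransparency false
set_option backward.isDefEq.respectTransparency.types false
set_option maxHeartbeats 1000000

universe u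

open CategoryTheory CategoryTheory.Limits AlgebraicGeometry TopologicalSpace

noncomputable section

namespace Groth.Agent.EllLaw

open Groth.Agent Groth.Agent.H23 Groth.Agent.H23.PicMul Groth.Agent.H26 Groth.Agent.Pic13Lib
  Groth.Agent.PicTangent Groth.Agent.PicTangent.JacDiff
open scoped Groth.Agent.H23.PicMul

attribute [local instance] PicMul.clMonoid

variable {E S : Scheme.{u}} (f : E ⟶ S) [IsProper f] [SmoothOfRelativeDimension 1 f] [GeometricallyConnected f]

section Relation

variable {f} {T : Over S} {c c' d d' : PicF.Cl (PicF.XT f T)}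

theorem cl_inverse {X : Scheme.{u}} {M : X.Modules} (hM : PicF.IsInvertible M) :
    ∃ M' : X.Modules, PicF.IsInvertible M' ∧ PicF.cl M * PicF.cl M' = 1 := by
  obtain ⟨M', hM', ⟨e⟩⟩ := PicInv.exists_inverse hM
  refine ⟨M', hM', ?_⟩
  rw [← PicMul.cl_tensor, PicMul.one_def]
  exact PicMul.cl_eq_iff.2 ⟨e⟩

theorem Rel.refl (c : PicF.Cl (PicF.XT f T)) : Rel f T c c :=
  ⟨_, InvX.isInvertible_structureModule, by rw [← PicMul.one_def, PicMul.pullCl_one, mul_one]⟩

theorem Rel.of_eq (h : c = c') : Rel f T c c' := h ▸ Rel.refl c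

theorem Rel.symm (h : Rel f T c c') : Rel f T c' c := by
  obtain ⟨M, hM, rfl⟩ := h
  obtain ⟨M', hM', h⟩ := cl_inverse hM
  exact ⟨M', hM', by rw [mul_assoc, ← PicMul.pullCl_mul, h, PicMul.pullCl_one, mul_one]⟩

theorem Rel.trans {c'' : PicF.Cl (PicF.XT f T)} (h : Rel f T c c') (h' : Rel f T c' c'') : Rel f T c c'' := by
  obtain ⟨M, hM, rfl⟩ := h
  obtain ⟨M', hM', rfl⟩ := h'
  exact ⟨_, PicMul.isInvertible_tensor hM' hM, by rw [PicMul.cl_tensor, PicMul.pullCl_mul, mul_assoc]⟩

theorem Rel.mul (h : Rel f T c c') (h' : Rel f T d d') : Rel f T (c * d) (c' * d') := by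
  obtain ⟨M, hM, rfl⟩ := h
  obtain ⟨M', hM', rfl⟩ := h'
  exact ⟨_, PicMul.isInvertible_tensor hM hM', by rw [PicMul.cl_tensor, PicMul.pullCl_mul]; ac_rfl⟩

theorem Rel.cancel (a : T ⟶ Over.mk f) (h : Rel f T (c * pt f T a) (c' * pt f T a)) : Rel f T c c' := by
  have h1 := h.mul (Rel.refl (ptInv f T a))
  rwa [mul_assoc, mul_assoc, pt_mul_ptInv, mul_one, mul_one] at h1

theorem Rel.pull {T' : Over S} (g : T' ⟶ T) (h : Rel f T c c') :
    Rel f T' (PicF.pullCl (PicF.XTmap f g) c) (PicF.pullCl (PicF.XTmap f g) c') := by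
  obtain ⟨M, hM, rfl⟩ := h
  refine ⟨_, PicClLib.isInvertible_pullback g.left hM, ?_⟩
  rw [PicMul.pullCl_mul, PicClLib.pullCl_comp, (S12409.isPullback_XTmap f g).w, ← PicClLib.pullCl_comp]
  rfl

end Relation

variable (hg : ∀ s : S, CohIII.fiberRank f (Coh.structureModule E) 1 s = 1)

include hg in
theorem eq_of_rel_pt {T : Over S} {a a' : T ⟶ Over.mk f} (h : Rel f T (pt f T a) (pt f T a')) : a = a' :=
  let ⟨_, hM, he⟩ := h
  eq_of_rel f hg a a' hM he

variable (e : S ⟶ E) (he : e ≫ f = 𝟙 S)

local notation "O" => Elliptic.origin f e he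

include hg in
/-- Classes of fibrewise degree zero are the differences of the origin and a unique section. -/
theorem existsUnique_point {T : Over S} {c : PicF.Cl (PicF.XT f T)} (hc : PicF.IsInvertibleCl c)
    (h : ∀ (Ω : Type u) [Field Ω] [IsAlgClosed Ω] (σ : Spec (CommRingCat.of Ω) ⟶ T.left),
      Deg0 f (σ ≫ T.hom) (PicF.pullCl (geomMap f σ) c)) :
    ∃! a : T ⟶ Over.mk f, Rel f T (c * pt f T a) (pt f T (O T)) := by
  haveI : Smooth f := SmoothOfRelativeDimension.smooth 1 f
  obtain ⟨L, rfl, hL⟩ := hc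
  obtain ⟨J, hJc, hJ⟩ := ptInv_invertible f T (O T)
  let N := CohB1.tensorMod L J
  have hN : PicF.IsInvertible N := PicMul.isInvertible_tensor hL hJ
  have hNc : PicF.cl N = PicF.cl L * ptInv f T (O T) := by rw [PicMul.cl_tensor, hJc]
  have hd : DegOne f T (PicF.cl N) := fun Ω _ _ σ M hM => by
    letI := overX f (σ ≫ T.hom)
    haveI := JacDeg.geometricallyIntegral f
    haveI := isIntegral_X f (σ ≫ T.hom)
    haveI : IsProper (PicF.XT f (Over.mk (σ ≫ T.hom)) ↘ Spec (CommRingCat.of Ω)) :=
      inferInstanceAs (IsProper (pullback.snd f _))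
    haveI : Smooth (PicF.XT f (Over.mk (σ ≫ T.hom)) ↘ Spec (CommRingCat.of Ω)) :=
      inferInstanceAs (Smooth (pullback.snd f _))
    have hLq := PicClLib.isInvertible_pullback (geomMap f σ) hL
    have hJq := PicClLib.isInvertible_pullback (geomMap f σ) hJ
    rw [PicMul.cl_tensor, PicMul.pullCl_mul] at hM
    change PicF.cl ((Scheme.Modules.pullback (geomMap f σ)).obj L) *
      PicF.cl ((Scheme.Modules.pullback (geomMap f σ)).obj J) = _ at hM
    rw [← PicMul.cl_tensor] at hM
    obtain ⟨i⟩ := PicMul.cl_eq_iff.1 hM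
    rw [← CurveRR.deg_congr Ω i 1, CurveAlgEq.deg_tensorMod (dim_X f (σ ≫ T.hom) (dim_fibre f)) hLq hJq,
      h Ω σ _ rfl, degOne_ptInv f T (O T) Ω σ _ (congrArg (PicF.pullCl (geomMap f σ)) hJc.symm), zero_add]
  obtain ⟨a, ha⟩ := exists_section f hg hN hd
  have ha' : Rel f T (PicF.cl L * pt f T a) (pt f T (O T)) := by
    have h1 := ha.mul (Rel.refl (pt f T (O T)))
    rw [one_mul] at h1
    refine (Rel.of_eq ?_).trans h1
    rw [hNc]
    calc PicF.cl L * pt f T a = PicF.cl L * pt f T a * (pt f T (O T) * ptInv f T (O T)) := by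
          rw [pt_mul_ptInv, mul_one]
      _ = _ := by ac_rfl
  refine ⟨a, ha', fun a' h' => eq_of_rel_pt f hg ?_⟩
  obtain ⟨L', hL', hLL'⟩ := cl_inverse hL
  have h2 := (h'.trans ha'.symm).mul (Rel.refl (PicF.cl L'))
  refine (Rel.of_eq ?_).trans (h2.trans (Rel.of_eq ?_))
  · rw [mul_right_comm, hLL', one_mul]
  · rw [mul_right_comm, hLL', one_mul]

include hg in
theorem existsUnique_mul {T : Over S} (P Q : T ⟶ Over.mk f) :
    ∃! R, Rel f T (pt f T P * pt f T Q) (pt f T R * pt f T (O T)) := by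
  have hinv : PicF.IsInvertibleCl (δ f T (O T) P * δ f T (O T) Q) :=
    inv_mul_cl (δ_invertible f T _ _) (δ_invertible f T _ _)
  have hdeg : ∀ (Ω : Type u) [Field Ω] [IsAlgClosed Ω] (σ : Spec (CommRingCat.of Ω) ⟶ T.left),
      Deg0 f (σ ≫ T.hom) (PicF.pullCl (geomMap f σ) (δ f T (O T) P * δ f T (O T) Q)) := by
    intro Ω _ _ σ
    haveI : Smooth f := SmoothOfRelativeDimension.smooth 1 f
    haveI := JacDeg.geometricallyIntegral f
    rw [PicMul.pullCl_mul, pull_δ, pull_δ]
    exact Deg0.mul f _ (dim_fibre f) (δ_invertible f _ _ _) (δ_invertible f _ _ _)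
      (deg0_δ f _ (dim_fibre f) _ _) (deg0_δ f _ (dim_fibre f) _ _)
  have key : ∀ R, Rel f T (δ f T (O T) P * δ f T (O T) Q * pt f T R) (pt f T (O T)) ↔
      Rel f T (pt f T P * pt f T Q) (pt f T R * pt f T (O T)) := fun R => by
    constructor <;> intro h
    · have h1 := (h.mul (Rel.refl (pt f T P * pt f T Q))).symm
      refine Rel.cancel (O T) (((Rel.of_eq ?_).trans h1).trans (Rel.of_eq ?_))
      · ac_rfl
      · calc δ f T (O T) P * δ f T (O T) Q * pt f T R * (pt f T P * pt f T Q)
            = pt f T R * pt f T (O T) * pt f T (O T) * ((pt f T P * ptInv f T P) * (pt f T Q * ptInv f T Q)) := by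
              simp only [δ]; ac_rfl
          _ = _ := by rw [pt_mul_ptInv, pt_mul_ptInv, mul_one, mul_one]
    · have h1 := (h.symm).mul (Rel.refl (pt f T (O T) * ptInv f T P * ptInv f T Q))
      refine (Rel.of_eq ?_).trans (h1.trans (Rel.of_eq ?_))
      · simp only [δ]; ac_rfl
      · calc pt f T P * pt f T Q * (pt f T (O T) * ptInv f T P * ptInv f T Q)
            = pt f T (O T) * ((pt f T P * ptInv f T P) * (pt f T Q * ptInv f T Q)) := by ac_rfl
          _ = _ := by rw [pt_mul_ptInv, pt_mul_ptInv, mul_one, mul_one]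
  obtain ⟨R, hR, hu⟩ := existsUnique_point f hg e he hinv hdeg
  exact ⟨R, (key R).1 hR, fun R' hR' => hu R' ((key R').2 hR')⟩

include hg in
theorem existsUnique_inv {T : Over S} (P : T ⟶ Over.mk f) :
    ∃! R, Rel f T (pt f T P * pt f T R) (pt f T (O T) * pt f T (O T)) := by
  have hdeg : ∀ (Ω : Type u) [Field Ω] [IsAlgClosed Ω] (σ : Spec (CommRingCat.of Ω) ⟶ T.left),
      Deg0 f (σ ≫ T.hom) (PicF.pullCl (geomMap f σ) (δ f T P (O T))) := by
    intro Ω _ _ σ
    haveI : Smooth f := SmoothOfRelativeDimension.smooth 1 f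
    haveI := JacDeg.geometricallyIntegral f
    rw [pull_δ]
    exact deg0_δ f _ (dim_fibre f) _ _
  have key : ∀ R, Rel f T (δ f T P (O T) * pt f T R) (pt f T (O T)) ↔
      Rel f T (pt f T P * pt f T R) (pt f T (O T) * pt f T (O T)) := fun R => by
    constructor <;> intro h
    · refine (Rel.of_eq ?_).trans (h.mul (Rel.refl (pt f T (O T))))
      calc pt f T P * pt f T R = pt f T P * pt f T R * (pt f T (O T) * ptInv f T (O T)) := by
            rw [pt_mul_ptInv, mul_one]
        _ = _ := by simp only [δ]; ac_rfl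
    · refine (Rel.of_eq ?_).trans ((h.mul (Rel.refl (ptInv f T (O T)))).trans (Rel.of_eq ?_))
      · simp only [δ]; ac_rfl
      · rw [mul_assoc, pt_mul_ptInv, mul_one]
  obtain ⟨R, hR, hu⟩ := existsUnique_point f hg e he (δ_invertible f T P (O T)) hdeg
  exact ⟨R, (key R).1 hR, fun R' hR' => hu R' ((key R').2 hR')⟩

/-- The sum of two points. -/
def add {T : Over S} (P Q : T ⟶ Over.mk f) : T ⟶ Over.mk f := (existsUnique_mul f hg e he P Q).choose

theorem add_spec {T : Over S} (P Q : T ⟶ Over.mk f) :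
    Rel f T (pt f T P * pt f T Q) (pt f T (add f hg e he P Q) * pt f T (O T)) :=
  (existsUnique_mul f hg e he P Q).choose_spec.1

theorem add_eq_iff {T : Over S} (P Q R : T ⟶ Over.mk f) :
    add f hg e he P Q = R ↔ Rel f T (pt f T P * pt f T Q) (pt f T R * pt f T (O T)) :=
  ⟨fun h => h ▸ add_spec f hg e he P Q, fun h => (existsUnique_mul f hg e he P Q).unique (add_spec f hg e he P Q) h⟩

/-- The opposite point. -/
def neg {T : Over S} (P : T ⟶ Over.mk f) : T ⟶ Over.mk f := (existsUnique_inv f hg e he P).choose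

theorem add_comm' {T : Over S} (P Q : T ⟶ Over.mk f) : add f hg e he P Q = add f hg e he Q P :=
  (add_eq_iff f hg e he P Q _).2 (mul_comm (pt f T Q) (pt f T P) ▸ add_spec f hg e he Q P)

theorem comp_add {T T' : Over S} (g : T' ⟶ T) (P Q : T ⟶ Over.mk f) :
    g ≫ add f hg e he P Q = add f hg e he (g ≫ P) (g ≫ Q) := by
  refine ((add_eq_iff f hg e he _ _ _).2 ?_).symm
  have h := (add_spec f hg e he P Q).pull g
  rwa [PicMul.pullCl_mul, PicMul.pullCl_mul, pull_pt, pull_pt, pull_pt, pull_pt,
    Elliptic.comp_origin] at h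

/-- The points with values in a scheme over `S` form a commutative group. -/
abbrev group (T : Over S) : CommGroup (T ⟶ Over.mk f) :=
  { mul := add f hg e he
    one := O T
    inv := neg f hg e he
    mul_assoc := fun P Q R => by
      show add f hg e he (add f hg e he P Q) R = add f hg e he P (add f hg e he Q R)
      refine (add_eq_iff f hg e he _ _ _).2 (Rel.cancel (O T) ?_)
      refine (Rel.of_eq ?_).trans (((add_spec f hg e he P Q).symm.mul (Rel.refl (pt f T R))).trans
        ((Rel.of_eq ?_).trans (((Rel.refl (pt f T P)).mul (add_spec f hg e he Q R)).trans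
          ((Rel.of_eq ?_).trans
            ((add_spec f hg e he P (add f hg e he Q R)).mul (Rel.refl (pt f T (O T))))))))
      · ac_rfl
      · ac_rfl
      · ac_rfl
    one_mul := fun P => (add_eq_iff f hg e he _ _ _).2 (Rel.of_eq (mul_comm _ _))
    mul_one := fun P => (add_eq_iff f hg e he _ _ _).2 (Rel.refl _)
    inv_mul_cancel := fun P => (add_eq_iff f hg e he _ _ _).2
      (mul_comm (pt f T P) (pt f T (neg f hg e he P)) ▸ (existsUnique_inv f hg e he P).choose_spec.1)
    mul_comm := add_comm' f hg e he }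

/-- The presheaf of groups of points. -/
def points : (Over S)ᵒᵖ ⥤ CommGrpCat.{u} where
  obj T := letI := group f hg e he T.unop; CommGrpCat.of (T.unop ⟶ Over.mk f)
  map {T T'} g :=
    letI := group f hg e he T.unop
    letI := group f hg e he T'.unop
    CommGrpCat.ofHom (MonoidHom.mk' (fun P => g.unop ≫ P) (fun P Q => comp_add f hg e he g.unop P Q))
  map_id T := ConcreteCategory.hom_ext _ _ fun (P : T.unop ⟶ Over.mk f) => Category.id_comp P
  map_comp {T T' T''} g g' := ConcreteCategory.hom_ext _ _ fun (P : T.unop ⟶ Over.mk f) =>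
    Category.assoc g'.unop g.unop P

/-- Points are represented by the curve. -/
def represents : (points f hg e he ⋙ forget _).RepresentableBy (Over.mk f) where
  homEquiv := Equiv.refl _
  homEquiv_comp _ _ := rfl

/-- The group scheme. -/
@[reducible] def grpObj : GrpObj (Over.mk f) :=
  GrpObj.ofRepresentableBy _ (points f hg e he ⋙ forget₂ CommGrpCat GrpCat) (represents f hg e he)

open CartesianMonoidalCategory MonObj in
theorem grpObj_mul {T : Over S} (P Q : T ⟶ Over.mk f) :
    letI := grpObj f hg e he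
    P * Q = add f hg e he P Q := by
  letI := grpObj f hg e he
  rw [Hom.mul_def]
  show lift P Q ≫ add f hg e he (fst _ _) (snd _ _) = _
  rw [comp_add, lift_fst, lift_snd]

open CartesianMonoidalCategory MonObj in
theorem grpObj_one :
    (grpObj f hg e he).toMonObj.one = O (MonoidalCategoryStruct.tensorUnit (Over S)) := rfl

open CartesianMonoidalCategory MonObj in
theorem grpObj_comm : @IsCommMonObj _ _ _ _ (Over.mk f) (grpObj f hg e he).toMonObj := by
  letI := grpObj f hg e he
  refine ⟨?_⟩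
  show (β_ _ _).hom ≫ add f hg e he (fst _ _) (snd _ _) = add f hg e he (fst _ _) (snd _ _)
  rw [comp_add, braiding_hom_fst, braiding_hom_snd, add_comm']

end Groth.Agent.EllLaw
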