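import Groth.Agent.Pic13Lib.SectDivisor
import Groth.Agent.InvX.GenLocusPull
import Groth.Agent.AmpleVan.Mul
import Groth.Agent.PicTangent.AbelSec
import Groth.Agent.MeroX.FibreCartier
import Groth.Agent.BlowUpX.Basic

/-!
# Divisors of sections which do not vanish identically on fibres
-/

set_option autoImplicit false
set_option linter.style.haveILetI false
set_option linter.unusedSectionVars false
set_option backward.isDefEq.respectTransparency false
set_option backward.isDefEq.respectTransparency.types false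
set_option maxHeartbeats 1000000

universe u

open CategoryTheory CategoryTheory.Limits AlgebraicGeometry TopologicalSpace

noncomputable section

namespace Groth.Agent.EllLaw

open Groth.Agent

variable {X Y : Scheme.{u}}

/-- A map of invertible modules which is not zero on a reduced scheme over `X` carries a frame to a
frame somewhere. -/
theorem exists_frame_of_pullback_ne_zero [IsReduced Y] (i : Y ⟶ X) {A B : X.Modules}
    (hA : PicF.IsInvertible A) (hB : PicF.IsInvertible B) (c : A ⟶ B)
    (h : (Scheme.Modules.pullback i).map c ≠ 0) :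
    ∃ (y : Y) (U : X.Opens) (g : Γ(A, U)), i y ∈ U ∧ InvX.IsFrame g ∧ InvX.IsFrame (c.app U g) := by
  by_contra hne
  refine h ?_
  choose V hxV gA gB hgA hgB using fun y : Y => InvX.exists_frame₂ hA hB (i y)
  refine InvX.hom_ext_of_frames (fun y => i ⁻¹ᵁ V y) (fun y => ⟨y, hxV y⟩) (fun y => InvX.pullElt i (gA y))
    (fun y => InvX.isFrame_pullElt i (hgA y)) fun y => ?_
  obtain ⟨a, ha⟩ := (hgB y).exists_coord le_rfl (c.app (V y) (gA y))
  rw [AModX.res_self] at ha
  have hbot : Y.basicOpen (i.app (V y) a) = ⊥ := by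
    rw [← Scheme.preimage_basicOpen, ← le_bot_iff]
    intro z hz
    refine hne ⟨z, X.basicOpen a, AModX.res A (X.basicOpen_le a) (gA y), hz, (hgA y).res _, ?_⟩
    rw [AModX.app_res, ha, AModX.res_smul]
    exact ((hgB y).res _).isUnit_smul (X.toRingedSpace.isUnit_res_basicOpen a)
  have h0 : i.app (V y) a = 0 := eq_zero_of_basicOpen_eq_bot _ hbot
  refine (InvX.map_pullElt i c (gA y)).trans ?_
  rw [ha, InvX.pullElt_smul, h0, zero_smul]
  rfl

/-- Tensoring a frame-preserving map gives a section with a frame value. -/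
theorem exists_isFrame_sv {A B N : X.Modules} (hB : PicF.IsInvertible B) (c : A ⟶ N)
    (α : CohB1.tensorMod A B ≅ Coh.structureModule X) {U : X.Opens} {g : Γ(A, U)} (hg : InvX.IsFrame g)
    (hc : InvX.IsFrame (c.app U g)) {x : X} (hx : x ∈ U) :
    ∃ V : X.Opens, x ∈ V ∧ InvX.IsFrame (ZeroSchX.sv (α.inv ≫ (AmpleVan.tw B).map c) V) := by
  obtain ⟨W, hxW, b, hb⟩ := InvX.exists_frame hB x
  let V := U ⊓ W
  let e : Γ(CohB1.tensorMod A B, V) := InvX.tmul (AModX.res A inf_le_left g) (AModX.res B inf_le_right b)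
  have he : InvX.IsFrame e := InvX.isFrame_tmul (hg.res _) (hb.res _)
  let j : Γ(CohB1.tensorMod A B, V) := α.inv.app V (show Γ(Coh.structureModule X, V) from (1 : Γ(X, V)))
  have hj : InvX.IsFrame j := InvX.IsFrame.map_iso α.symm (InvX.isFrame_one V)
  obtain ⟨r, hr⟩ := he.exists_coord le_rfl j
  obtain ⟨r', hr'⟩ := hj.exists_coord le_rfl e
  rw [AModX.res_self] at hr hr'
  have hu : IsUnit r := by
    refine IsUnit.of_mul_eq_one r' ?_
    refine (he V le_rfl).1 ?_
    show (r * r') • AModX.res _ _ e = (1 : Γ(X, V)) • AModX.res _ _ e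
    rw [AModX.res_self, one_smul, mul_comm, mul_smul, ← hr, ← hr']
  refine ⟨V, ⟨hx, hxW⟩, ?_⟩
  show InvX.IsFrame (((AmpleVan.tw B).map c).app V j)
  rw [hr, Scheme.Modules.Hom.app_smul, AmpleVan.map_tmul_left]
  refine InvX.IsFrame.isUnit_smul (InvX.isFrame_tmul ?_ (hb.res _)) hu
  rw [AModX.app_res]
  exact hc.res _

/-- A section whose zero scheme is an effective Cartier divisor is a monomorphism. -/
theorem mono_of_isEffCartier {L : X.Modules} (hL : PicF.IsInvertible L) (s : Coh.structureModule X ⟶ L)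
    (hI : BlowUp.IsEffCartierIdeal (PicF2.zeroScheme L s)) : Mono s := by
  let B : Set X.Opens := {V | ∃ (_ : IsAffineOpen V) (e : Γ(L, V)) (c : Γ(X, V)),
    c ∈ nonZeroDivisors Γ(X, V) ∧ InvX.IsFrame e ∧ ZeroSchX.sv s V = c • e}
  have hB : Opens.IsBasis B := Opens.isBasis_iff_nbhd.2 fun {O x} hx => by
    obtain ⟨W, hxW, e, he⟩ := InvX.exists_frame hL x
    obtain ⟨U, hxU, hUO, a, ha, hIa⟩ := FlatX.exists_locGen hI (show x ∈ O ⊓ W from ⟨hx, hxW⟩)
    have hUW : U.1 ≤ W := hUO.trans inf_le_right
    obtain ⟨c, hc⟩ := (he.res hUW).exists_coord le_rfl (ZeroSchX.sv s U.1)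
    rw [AModX.res_self] at hc
    refine ⟨U.1, ⟨U.2, _, c, ?_, he.res hUW, hc⟩, hxU, hUO.trans inf_le_left⟩
    rw [ZeroSchX.ideal_zeroScheme hL, ZeroSchX.zeroIdealOn_eq_span s (he.res hUW) hc] at hIa
    obtain ⟨q, hq⟩ := Ideal.mem_span_singleton'.1 (hIa.ge (Ideal.mem_span_singleton_self a))
    exact (mul_mem_nonZeroDivisors.1 (hq ▸ ha)).2
  refine QCoh.mono_of_isBasis s hB fun V ⟨_, e, c, hc, he, hs⟩ => (injective_iff_map_eq_zero (s.app V).hom).2 fun r hr => ?_
  have h1 : (show Γ(X, V) from r) • ZeroSchX.sv s V = 0 :=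
    ((congrArg (s.app V) (mul_one (show Γ(X, V) from r))).symm.trans
      (Scheme.Modules.Hom.app_smul s (show Γ(X, V) from r)
        (show Γ(Coh.structureModule X, V) from (1 : Γ(X, V))))).symm.trans hr
  rw [hs, smul_smul] at h1
  refine mem_nonZeroDivisors_iff_right.1 hc _ ((he V le_rfl).1 ?_)
  show ((show Γ(X, V) from r) * c) • AModX.res L _ e = (0 : Γ(X, V)) • AModX.res L _ e
  rw [AModX.res_self, zero_smul]
  exact h1

/-- A nonzero locally principal ideal on an integral scheme is effective Cartier. -/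
theorem isEffCartier_of_integral [IsIntegral X] {I : X.IdealSheafData} (hI : ModPairLib.IsLocPrincipal I)
    {x : X} (hx : x ∉ I.support) : BlowUp.IsEffCartierIdeal I := by
  refine BlowUpX.isEffCartier_of_reduced hI fun z hz hzI => hx ?_
  obtain rfl : genericPoint X = z := hz _ (genericPoint_specializes z)
  exact (genericPoint_specializes x).mem_closed I.support.isClosed hzI

/-- The inclusion of ideal modules. -/
theorem comp_toSubscheme_of_le {I J : X.IdealSheafData} (h : I ≤ J) :
    ClSub.idealModι I ≫ ClSub.toSubscheme J = 0 := by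
  let q : ClSub.quotMod I ⟶ ClSub.quotMod J :=
    (Scheme.Modules.pushforward I.subschemeι).map (ClSub.unitToPush (Scheme.IdealSheafData.inclusion h)) ≫
      (Scheme.Modules.pushforwardComp (Scheme.IdealSheafData.inclusion h) I.subschemeι).hom.app _ ≫
      (Scheme.Modules.pushforwardCongr (Scheme.IdealSheafData.inclusion_subschemeι h)).hom.app _
  have hq : ClSub.toSubscheme I ≫ q = ClSub.toSubscheme J := by
    apply Scheme.Modules.hom_ext
    intro U
    ext s
    exact (ConcreteCategory.congr_hom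
      (Scheme.Hom.congr_app (Scheme.IdealSheafData.inclusion_subschemeι h).symm U) s).symm
  rw [← hq, ← Category.assoc]
  exact (congrArg (· ≫ q) (kernel.condition _)).trans zero_comp

end Groth.Agent.EllLaw
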